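import Groth.Prelude.Def_KRR
import Groth.Agent.CohqB.ProjBC
import Groth.Agent.Sga5.ProjConn
import Groth.Agent.Krr.H482.PnSect

/-!
# `P^n_Y` is connected when `Y` is
-/

set_option autoImplicit false
universe u

open CategoryTheory CategoryTheory.Limits AlgebraicGeometry

namespace Groth.Agent.Krr.H452.PnConn

open Groth.Agent.CohqB.ProjBC

instance connectedSpace_PY_field (n : ℕ) (k : Type u) [Field k] :
    ConnectedSpace (CohB1.ProjSpaceOver n (Spec (CommRingCat.of k))) :=
  (Scheme.homeoOfIso (projSpaceOverIso n k)).symm.surjective.connectedSpace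
    (Scheme.homeoOfIso (projSpaceOverIso n k)).symm.continuous

theorem isPreconnected_fibre (n : ℕ) (Y : Scheme.{u}) (y : Y) :
    _root_.IsPreconnected ((KRR.pr n Y) ⁻¹' {y} : Set (KRR.PY n Y)) := by
  have h := isPullback_overMap n (Y.fromSpecResidueField y)
  have h1 : Set.range (overMap n (Y.fromSpecResidueField y)) = (KRR.pr n Y) ⁻¹' {y} := by
    rw [← Scheme.range_fromSpecResidueField y, ← Scheme.Pullback.range_fst, ← h.isoPullback_hom_fst,
      Scheme.Hom.comp_base, TopCat.coe_comp, Set.range_comp]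
    have hsurj : Function.Surjective (h.isoPullback.hom : _ → _) :=
      (Scheme.homeoOfIso h.isoPullback).surjective
    rw [hsurj.range_eq, Set.image_univ]
  rw [← h1]
  have : ConnectedSpace (CohB1.ProjSpaceOver n (Spec (Y.residueField y))) :=
    connectedSpace_PY_field n (Y.residueField y)
  exact isPreconnected_range (overMap n (Y.fromSpecResidueField y)).continuous

instance connectedSpace_PY (n : ℕ) (Y : Scheme.{u}) [ConnectedSpace Y] : ConnectedSpace (KRR.PY n Y) := by
  let s := Groth.Agent.Krr.H482.PnSect.sect n Y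
  have hs : ∀ y : Y, (KRR.pr n Y) (s y) = y := by
    intro y
    have := congrArg (fun f : Y ⟶ Y => f y) (Groth.Agent.Krr.H482.PnSect.sect_toBase n Y)
    simpa using this
  obtain ⟨y₀⟩ : Nonempty Y := inferInstance
  have hpre : _root_.IsPreconnected (Set.univ : Set (KRR.PY n Y)) := by
    refine isPreconnected_of_forall (s y₀) fun x _ => ?_
    refine ⟨Set.range s ∪ (KRR.pr n Y) ⁻¹' {(KRR.pr n Y) x}, Set.subset_univ _, Or.inl ⟨y₀, rfl⟩,
      Or.inr rfl, ?_⟩
    exact _root_.IsPreconnected.union (s ((KRR.pr n Y) x)) ⟨_, rfl⟩ (hs _)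
      (isPreconnected_range s.continuous) (isPreconnected_fibre n Y _)
  exact { isPreconnected_univ := hpre, toNonempty := ⟨s y₀⟩ }

end Groth.Agent.Krr.H452.PnConn
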