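import Groth.Prelude.Def_KRR
import Groth.Agent.Krr.H473.QProj
import Groth.Agent.S1496

/-!
# Quasi-projectivity of `P^n_Y` over an affine Noetherian base
-/

set_option autoImplicit false
universe u

open CategoryTheory CategoryTheory.Limits AlgebraicGeometry

namespace Groth.Agent.Krr.H452.QProjPn

/-- `P^n_Y → Y` is proper. -/
theorem isProper_pr (n : ℕ) {Y : Scheme.{u}} (hY : ∃ L : Y.Modules, CohB1.IsAmple L) :
    IsProper (KRR.pr n Y) :=
  ((Groth.Agent.S1496.result hY (KRR.pr n Y)).1.1 ⟨n, 𝟙 _, inferInstance, Category.id_comp _⟩).1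

/-- If `Y` has an ample module, so has `P^n_Y`. -/
theorem exists_isAmple_PY (n : ℕ) {Y : Scheme.{u}} (hY : ∃ L : Y.Modules, CohB1.IsAmple L) :
    ∃ L : (KRR.PY n Y).Modules, CohB1.IsAmple L :=
  ((Groth.Agent.S1496.result hY (KRR.pr n Y)).1.1 ⟨n, 𝟙 _, inferInstance, Category.id_comp _⟩).2

/-- If `Y` is Noetherian with an ample module, `P^n_Y` is Noetherian. -/
theorem isNoetherian_PY (n : ℕ) {Y : Scheme.{u}} [IsNoetherian Y]
    (hY : ∃ L : Y.Modules, CohB1.IsAmple L) : IsNoetherian (KRR.PY n Y) := by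
  have := isProper_pr n hY
  have h1 : IsLocallyNoetherian (KRR.PY n Y) := LocallyOfFiniteType.isLocallyNoetherian (KRR.pr n Y)
  have h2 : CompactSpace (KRR.PY n Y) := QuasiCompact.compactSpace_of_compactSpace (KRR.pr n Y)
  exact { }

/-- A finite type morphism `f : X → Y`, `X` with an ample module, `Y` quasi-projective over affine `S`. -/
theorem isQProjOver_of_isAmple {X S : Scheme.{u}} [IsAffine S] (f : X ⟶ S) [LocallyOfFiniteType f]
    [QuasiCompact f] (hX : ∃ L : X.Modules, CohB1.IsAmple L) : KRR.IsQProjOver f := by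
  obtain ⟨n, i, hi, -, h⟩ := (Groth.Agent.S1497.result
    ⟨_, Groth.Agent.Ega2.Weight.isAmple_structureModule S⟩ f).2 ⟨inferInstance, inferInstance, hX⟩
  exact ⟨n, i, hi, h⟩

/-- `P^n_Y` is quasi-projective over `S` when `Y` is (`S` affine, `Y` Noetherian). -/
theorem isQProjOver_pr (n : ℕ) {Y S : Scheme.{u}} [IsAffine S] [IsNoetherian Y] {q : Y ⟶ S}
    (h : KRR.IsQProjOver q) : KRR.IsQProjOver (KRR.pr n Y ≫ q) := by
  have hY := Groth.Agent.Krr.H473.QProj.exists_isAmple h
  have := isProper_pr n hY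
  have := Groth.Agent.Krr.H473.QProj.locallyOfFiniteType h
  have := Groth.Agent.Krr.H473.QProj.quasiCompact h
  exact isQProjOver_of_isAmple _ (exists_isAmple_PY n hY)

end Groth.Agent.Krr.H452.QProjPn
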