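import Groth.Prelude.Def_KRR
import Mathlib.RingTheory.TensorProduct.Basic
import Mathlib.RingTheory.TensorProduct.Maps
import Mathlib.RingTheory.Localization.Away.Basic

/-!
# The Adams Riemann–Roch formula of a composite, as algebra

`a : KX → KP` satisfies the projection formula for the ring map `g : KP → KX`; a multiplier formula for
`b : KP → KY` after base change to `R` gives the multiplier formula for `b ∘ a`.
-/

set_option autoImplicit false
universe v w t r

open scoped TensorProduct

namespace Groth.Agent.Krr.H452.AdamsComp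

section Bott

variable {K : Type v} [CommRing K] [LambdaRing.LambdaOps K]
  {K' : Type w} [CommRing K'] [LambdaRing.LambdaOps K']

/-- Bott's class is natural for ring maps that commute with the λ-operations on `e` and with the augmentation
of `e` (any two λ-rings, possibly in different universes; no injectivity). -/
theorem map_bott (P : LambdaRing.PosStructure K) (P' : LambdaRing.PosStructure K') (f : K →+* K') (e : K)
    (hlam : ∀ i, f (LambdaRing.LambdaOps.lam i e) = LambdaRing.LambdaOps.lam i (f e))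
    (haug : P'.aug (f e) = P.aug e) (j : ℕ) :
    f (KRR.bott P j e) = KRR.bott P' j (f e) := by
  unfold KRR.bott
  rw [haug, MvPolynomial.aeval_def, MvPolynomial.aeval_def, MvPolynomial.eval₂_comp_left]
  congr 1
  · exact Subsingleton.elim _ _
  · funext i
    exact hlam _

/-- The Adams operations are natural for ring maps that commute with the λ-operations on `x` and with the
augmentation of `x`. -/
theorem map_adams (P : LambdaRing.PosStructure K) (P' : LambdaRing.PosStructure K') (f : K →+* K') (x : K)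
    (hlam : ∀ i, f (LambdaRing.LambdaOps.lam i x) = LambdaRing.LambdaOps.lam i (f x))
    (haug : P'.aug (f x) = P.aug x) (j : ℕ) :
    f (LambdaRing.adams P j x) = LambdaRing.adams P' j (f x) := by
  have h1 : PowerSeries.map f (LambdaRing.lamSeries x) = LambdaRing.lamSeries (f x) := by
    ext i
    simp only [PowerSeries.coeff_map, LambdaRing.lamSeries, PowerSeries.coeff_mk, hlam]
  have h2 : PowerSeries.map f (PowerSeries.rescale (-1 : K) (LambdaRing.lamSeries x)) =
      PowerSeries.rescale (-1 : K') (LambdaRing.lamSeries (f x)) := by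
    rw [← h1]
    ext i
    simp only [PowerSeries.coeff_map, PowerSeries.coeff_rescale, map_mul, map_pow, map_neg, map_one]
  have hc : PowerSeries.constantCoeff (PowerSeries.rescale (-1 : K) (LambdaRing.lamSeries x)) = 1 := by
    rw [← PowerSeries.coeff_zero_eq_constantCoeff_apply, PowerSeries.coeff_rescale, LambdaRing.lamSeries,
      PowerSeries.coeff_mk, LambdaRing.LambdaOps.lam_zero, pow_zero, one_mul]
  have hc' : PowerSeries.constantCoeff (PowerSeries.rescale (-1 : K') (LambdaRing.lamSeries (f x))) = 1 := by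
    rw [← PowerSeries.coeff_zero_eq_constantCoeff_apply, PowerSeries.coeff_rescale, LambdaRing.lamSeries,
      PowerSeries.coeff_mk, LambdaRing.LambdaOps.lam_zero, pow_zero, one_mul]
  have h3 : PowerSeries.map f ((PowerSeries.rescale (-1 : K) (LambdaRing.lamSeries x)).invOfUnit 1) =
      (PowerSeries.rescale (-1 : K') (LambdaRing.lamSeries (f x))).invOfUnit 1 := by
    have e1 : PowerSeries.rescale (-1 : K) (LambdaRing.lamSeries x) *
        (PowerSeries.rescale (-1 : K) (LambdaRing.lamSeries x)).invOfUnit 1 = 1 :=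
      PowerSeries.mul_invOfUnit _ 1 (by rw [hc, Units.val_one])
    have e2 : PowerSeries.rescale (-1 : K') (LambdaRing.lamSeries (f x)) *
        (PowerSeries.rescale (-1 : K') (LambdaRing.lamSeries (f x))).invOfUnit 1 = 1 :=
      PowerSeries.mul_invOfUnit _ 1 (by rw [hc', Units.val_one])
    have e3 := congrArg (PowerSeries.map f) e1
    rw [map_mul, h2, map_one] at e3
    calc _ = (PowerSeries.rescale (-1 : K') (LambdaRing.lamSeries (f x)) *
            (PowerSeries.rescale (-1 : K') (LambdaRing.lamSeries (f x))).invOfUnit 1) *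
            PowerSeries.map f ((PowerSeries.rescale (-1 : K) (LambdaRing.lamSeries x)).invOfUnit 1) := by
          rw [e2, one_mul]
      _ = (PowerSeries.rescale (-1 : K') (LambdaRing.lamSeries (f x)) *
            PowerSeries.map f ((PowerSeries.rescale (-1 : K) (LambdaRing.lamSeries x)).invOfUnit 1)) *
            (PowerSeries.rescale (-1 : K') (LambdaRing.lamSeries (f x))).invOfUnit 1 := by ring
      _ = _ := by rw [e3, one_mul]
  have h4 : PowerSeries.map f (PowerSeries.derivative K (PowerSeries.rescale (-1 : K) (LambdaRing.lamSeries x))) =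
      PowerSeries.derivative K' (PowerSeries.rescale (-1 : K') (LambdaRing.lamSeries (f x))) := by
    rw [← h2]
    ext i
    simp only [PowerSeries.coeff_map, PowerSeries.coeff_derivative, map_mul, map_add, map_natCast, map_one]
  unfold LambdaRing.adams LambdaRing.adamsSeries
  rw [← PowerSeries.coeff_map, map_sub, map_mul, map_mul, h3, h4, PowerSeries.map_C, PowerSeries.map_X, haug,
    map_intCast]

end Bott

section Comp

variable {R : Type r} [CommRing R] {KX : Type v} [CommRing KX] {KP : Type w} [CommRing KP]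
  {KY : Type t} [CommRing KY]

/-- The base change of a ring map. -/
noncomputable def tmap (R : Type r) [CommRing R] (g : KP →+* KX) :
    TensorProduct ℤ R KP →+* TensorProduct ℤ R KX :=
  (Algebra.TensorProduct.map (AlgHom.id ℤ R) g.toIntAlgHom).toRingHom

@[simp] theorem tmap_tmul (g : KP →+* KX) (s : R) (y : KP) :
    tmap R g (s ⊗ₜ[ℤ] y) = s ⊗ₜ[ℤ] g y := rfl

/-- The projection formula after base change. -/
theorem lTensor_mul_tmap (g : KP →+* KX) (a : KX →+ KP) (hpf : ∀ x y, a (x * g y) = a x * y)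
    (s : TensorProduct ℤ R KX) (t : TensorProduct ℤ R KP) :
    LinearMap.lTensor R a.toIntLinearMap (s * tmap R g t) =
      LinearMap.lTensor R a.toIntLinearMap s * t := by
  induction t with
  | zero => simp
  | add t₁ t₂ h₁ h₂ => rw [map_add, mul_add, map_add, h₁, h₂, mul_add]
  | tmul u y =>
    induction s with
    | zero => simp
    | add s₁ s₂ h₁ h₂ => rw [add_mul, map_add, h₁, h₂, map_add, add_mul]
    | tmul v x =>
      rw [tmap_tmul, Algebra.TensorProduct.tmul_mul_tmul, LinearMap.lTensor_tmul, LinearMap.lTensor_tmul,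
        Algebra.TensorProduct.tmul_mul_tmul]
      exact congrArg (fun z => (v * u) ⊗ₜ[ℤ] z) (hpf x y)

/-- The multiplier formula for a composite: `β` and `β'` are the classes to be inverted on `P` and `X`,
`c x'` is the multiplier of `a`, and `S (a x) = a x'`. -/
theorem comp_formula (g : KP →+* KX) (a : KX →+ KP) (hpf : ∀ x y, a (x * g y) = a x * y) (b : KP →+ KY)
    (j : ℕ) (β : KP) (β' : KX) (hβ : g β = β') (z : KP) (x' : KX) (hz : z = a x') (y : KY)
    (h : (∃ w : TensorProduct ℤ R KP, w * ((1 : R) ⊗ₜ[ℤ] β) = 1) ∧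
      ∀ w : TensorProduct ℤ R KP, w * ((1 : R) ⊗ₜ[ℤ] β) = 1 →
        (1 : R) ⊗ₜ[ℤ] y = LinearMap.lTensor R b.toIntLinearMap
          ((j : TensorProduct ℤ R KP) * ((1 : R) ⊗ₜ[ℤ] z) * w)) :
    (∃ w : TensorProduct ℤ R KX, w * ((1 : R) ⊗ₜ[ℤ] β') = 1) ∧
      ∀ w : TensorProduct ℤ R KX, w * ((1 : R) ⊗ₜ[ℤ] β') = 1 →
        (1 : R) ⊗ₜ[ℤ] y = LinearMap.lTensor R (b.comp a).toIntLinearMap
          ((j : TensorProduct ℤ R KX) * ((1 : R) ⊗ₜ[ℤ] x') * w) := by
  subst hβ hz
  obtain ⟨⟨w₀, hw₀⟩, h⟩ := h
  have hw₁ : tmap R g w₀ * ((1 : R) ⊗ₜ[ℤ] g β) = 1 := by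
    rw [← tmap_tmul, ← map_mul, hw₀, map_one]
  refine ⟨⟨_, hw₁⟩, fun w hw => ?_⟩
  have hww : w = tmap R g w₀ := by
    calc w = w * (tmap R g w₀ * ((1 : R) ⊗ₜ[ℤ] g β)) := by rw [hw₁, mul_one]
      _ = (w * ((1 : R) ⊗ₜ[ℤ] g β)) * tmap R g w₀ := by ring
      _ = _ := by rw [hw, one_mul]
  have hcomp : ∀ s : TensorProduct ℤ R KX, LinearMap.lTensor R (b.comp a).toIntLinearMap s =
      LinearMap.lTensor R b.toIntLinearMap (LinearMap.lTensor R a.toIntLinearMap s) := by
    intro s
    induction s with
    | zero => simp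
    | add s₁ s₂ h₁ h₂ => rw [map_add, h₁, h₂, map_add, map_add]
    | tmul u y => rfl
  rw [hww, hcomp, lTensor_mul_tmap g a hpf, h w₀ hw₀]
  congr 2
  have h3 : (j : TensorProduct ℤ R KX) * ((1 : R) ⊗ₜ[ℤ] x') = j • ((1 : R) ⊗ₜ[ℤ] x') := (nsmul_eq_mul _ _).symm
  have h4 : (j : TensorProduct ℤ R KP) * ((1 : R) ⊗ₜ[ℤ] a x') = j • ((1 : R) ⊗ₜ[ℤ] a x') :=
    (nsmul_eq_mul _ _).symm
  rw [h3, h4, map_nsmul]
  rfl

end Comp

end Groth.Agent.Krr.H452.AdamsComp
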