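import Groth.Agent.Krr.H452.PushRR
import Groth.Agent.Krr.H452.PnConn
import Groth.Agent.Krr.H452.QProjPn

/-!
# S3753 from S3751, S3752 and S3747

`result_of` takes the instances at `i : X ⟶ P^n_Y` of S3751 (`H51`), of S3752 (`H52`) and of S3747 (`H47`), with the
hypotheses of these statements (`P^n_Y` Noetherian, connected, quasi-projective over `S`, enough locally free
modules) proved here.
-/

set_option autoImplicit false
universe v u
open CategoryTheory CategoryTheory.Limits AlgebraicGeometry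
open scoped TensorProduct
open KRR

namespace Groth.Agent.Krr.H452.CondAll

theorem result_of (S : Scheme.{u}) [IsAffine S] [IsNoetherian S] (n : ℕ) {X Y : Scheme.{u}} [IsNoetherian Y] [ConnectedSpace ↥Y] (qY : Y ⟶ S) (hqY : KRR.IsQProjOver qY)
    (i : X ⟶ KRR.PY n Y) (hi : Mor2.IsRegularClosedImmersion i) [ConnectedSpace ↥X] (c : ℕ)
    (hC : FlatMod.IsFinLocFreeOfRank c (Omega.conormal i))
    (KX : Type v) [CommRing KX] [LambdaRing.LambdaOps KX] (PX : LambdaRing.PosStructure KX) (φX : SGA6.Kvb X →+ KX) (hKX : KRR.IsModel X KX PX φX)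
    (KP : Type v) [CommRing KP] [LambdaRing.LambdaOps KP] (PP : LambdaRing.PosStructure KP) (φP : SGA6.Kvb (KRR.PY n Y) →+ KP) (hKP : KRR.IsModel (KRR.PY n Y) KP PP φP)
    (KY : Type v) [CommRing KY] [LambdaRing.LambdaOps KY] (PY : LambdaRing.PosStructure KY) (φY : SGA6.Kvb Y →+ KY) (hKY : KRR.IsModel Y KY PY φY)
    (gi : KP →+ KX) (hgi : KRR.IsPull i φP φX gi)
    (a : KX →+ KP) (ha : KRR.IsPushCl i φX φP a) (b : KP →+ KY) (hb : KRR.IsPushPr n Y φP φY b)
    (j : ℕ) (hj : 1 ≤ j) (x : KX)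
    -- S3751 at i
    (H51 : ∀ [IsNoetherian (KRR.PY n Y)] [ConnectedSpace ↥(KRR.PY n Y)], KRR.IsQProjOver (KRR.pr n Y ≫ qY) →
      LambdaRing.adams PP j (a x) = a (KRR.bott PX j (φX (KRR.cl X (Omega.conormal i))) * LambdaRing.adams PX j x))
    -- S3752 at a x
    (H52 : (∃ w : TensorProduct ℤ (Localization.Away (j : ℤ)) KP,
        w * ((1 : Localization.Away (j : ℤ)) ⊗ₜ[ℤ] KRR.bott PP j (φP (KRR.cl (KRR.PY n Y)
          (KRR.twF n Y (-1) ((Scheme.Modules.pullback (KRR.pr n Y)).obj (FlatMod.freeMod Y (n + 1))))))) = 1) ∧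
      ∀ w : TensorProduct ℤ (Localization.Away (j : ℤ)) KP,
        w * ((1 : Localization.Away (j : ℤ)) ⊗ₜ[ℤ] KRR.bott PP j (φP (KRR.cl (KRR.PY n Y)
          (KRR.twF n Y (-1) ((Scheme.Modules.pullback (KRR.pr n Y)).obj (FlatMod.freeMod Y (n + 1))))))) = 1 →
        (1 : Localization.Away (j : ℤ)) ⊗ₜ[ℤ] LambdaRing.adams PY j (b (a x)) =
          LinearMap.lTensor (Localization.Away (j : ℤ)) b.toIntLinearMap
            ((j : TensorProduct ℤ (Localization.Away (j : ℤ)) KP) *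
              ((1 : Localization.Away (j : ℤ)) ⊗ₜ[ℤ] LambdaRing.adams PP j (a x)) * w))
    -- S3747 at i
    (H47 : ∀ [IsNoetherian X] [IsNoetherian (KRR.PY n Y)] [ConnectedSpace ↥(KRR.PY n Y)],
      KRR.HasEnoughLocFree (KRR.PY n Y) → ∀ (x : KX) (y : KP), a (x * gi y) = a x * y) :
    (∃ w : TensorProduct ℤ (Localization.Away (j : ℤ)) KX, w * ((1 : Localization.Away (j : ℤ)) ⊗ₜ[ℤ] KRR.bott PX j (gi (φP (KRR.cl (KRR.PY n Y)
      (KRR.twF n Y (-1) ((Scheme.Modules.pullback (KRR.pr n Y)).obj (FlatMod.freeMod Y (n + 1)))))))) = 1) ∧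
    ∀ w : TensorProduct ℤ (Localization.Away (j : ℤ)) KX, w * ((1 : Localization.Away (j : ℤ)) ⊗ₜ[ℤ] KRR.bott PX j (gi (φP (KRR.cl (KRR.PY n Y)
      (KRR.twF n Y (-1) ((Scheme.Modules.pullback (KRR.pr n Y)).obj (FlatMod.freeMod Y (n + 1)))))))) = 1 →
    (1 : Localization.Away (j : ℤ)) ⊗ₜ[ℤ] LambdaRing.adams PY j (b (a x)) =
      LinearMap.lTensor (Localization.Away (j : ℤ)) (b.comp a).toIntLinearMap
        ((j : TensorProduct ℤ (Localization.Away (j : ℤ)) KX) *
          ((1 : Localization.Away (j : ℤ)) ⊗ₜ[ℤ] (KRR.bott PX j (φX (KRR.cl X (Omega.conormal i))) * LambdaRing.adams PX j x)) * w) := by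
  have hYa := Groth.Agent.Krr.H473.QProj.exists_isAmple hqY
  have hP := QProjPn.isNoetherian_PY n hYa
  have hq := QProjPn.isQProjOver_pr n hqY
  have : IsClosedImmersion i := hi.1
  have hX : IsNoetherian X := by
    have h1 : IsLocallyNoetherian X := LocallyOfFiniteType.isLocallyNoetherian i
    have h2 : CompactSpace X := QuasiCompact.compactSpace_of_compactSpace i
    exact { }
  exact PushRR.of_parts n i KX PX φX hKX KP PP φP hKP KY PY gi hgi a b j x
    (H47 (Groth.Agent.Krr.H473.QProj.hasEnoughLocFree hq)) (H51 hq) H52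

end Groth.Agent.Krr.H452.CondAll
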