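import Groth.Agent.Krr.H452.AdamsComp
import Groth.Agent.Krr.H482.PullFinal
import Groth.Prelude.Def_Omega2

/-!
# Adams Riemann–Roch for `f = i ≫ p`: the assembly

From the Adams Riemann–Roch formulas for the regular closed immersion `i : X ⟶ P^n_Y` and for `p : P^n_Y ⟶ Y`
and the projection formula for `i_K`.
-/

set_option autoImplicit false
universe v u
open CategoryTheory CategoryTheory.Limits AlgebraicGeometry
open scoped TensorProduct
open KRR

namespace Groth.Agent.Krr.H452.PushRR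

theorem map_bott_pull {X Y : Scheme.{u}} {f : X ⟶ Y}
    {KX : Type v} [CommRing KX] [LambdaRing.LambdaOps KX] {PX : LambdaRing.PosStructure KX}
    {φX : SGA6.Kvb X →+ KX} (hKX : IsModel X KX PX φX)
    {KY : Type v} [CommRing KY] [LambdaRing.LambdaOps KY] {PY : LambdaRing.PosStructure KY}
    {φY : SGA6.Kvb Y →+ KY} (hKY : IsModel Y KY PY φY) {q : KY →+ KX} (hq : IsPull f φY φX q)
    (j : ℕ) (e : KY) : q (KRR.bott PY j e) = KRR.bott PX j (q e) :=
  AdamsComp.map_bott PY PX (Groth.Agent.Krr.H482.PullLambda.pullRingHom hKX hKY hq) e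
    (fun i => Groth.Agent.Krr.H482.PullFinal.pull_lam hKX hKY hq i e)
    (Groth.Agent.Krr.H482.PullLambda.pull_aug hKX hKY hq e) j

theorem map_adams_pull {X Y : Scheme.{u}} {f : X ⟶ Y}
    {KX : Type v} [CommRing KX] [LambdaRing.LambdaOps KX] {PX : LambdaRing.PosStructure KX}
    {φX : SGA6.Kvb X →+ KX} (hKX : IsModel X KX PX φX)
    {KY : Type v} [CommRing KY] [LambdaRing.LambdaOps KY] {PY : LambdaRing.PosStructure KY}
    {φY : SGA6.Kvb Y →+ KY} (hKY : IsModel Y KY PY φY) {q : KY →+ KX} (hq : IsPull f φY φX q)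
    (j : ℕ) (e : KY) : q (LambdaRing.adams PY j e) = LambdaRing.adams PX j (q e) :=
  AdamsComp.map_adams PY PX (Groth.Agent.Krr.H482.PullLambda.pullRingHom hKX hKY hq) e
    (fun i => Groth.Agent.Krr.H482.PullFinal.pull_lam hKX hKY hq i e)
    (Groth.Agent.Krr.H482.PullLambda.pull_aug hKX hKY hq e) j

/-- S3753 from its three parts: `hpf` (S3747), `h51` (S3751), `h52` (S3752). -/
theorem of_parts (n : ℕ) {X Y : Scheme.{u}} (i : X ⟶ KRR.PY n Y)
    (KX : Type v) [CommRing KX] [LambdaRing.LambdaOps KX] (PX : LambdaRing.PosStructure KX)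
    (φX : SGA6.Kvb X →+ KX) (hKX : KRR.IsModel X KX PX φX)
    (KP : Type v) [CommRing KP] [LambdaRing.LambdaOps KP] (PP : LambdaRing.PosStructure KP)
    (φP : SGA6.Kvb (KRR.PY n Y) →+ KP) (hKP : KRR.IsModel (KRR.PY n Y) KP PP φP)
    (KY : Type v) [CommRing KY] [LambdaRing.LambdaOps KY] (PY : LambdaRing.PosStructure KY)
    (gi : KP →+ KX) (hgi : KRR.IsPull i φP φX gi)
    (a : KX →+ KP) (b : KP →+ KY) (j : ℕ) (x : KX)
    (hpf : ∀ x y, a (x * gi y) = a x * y)
    (h51 : LambdaRing.adams PP j (a x) =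
      a (KRR.bott PX j (φX (KRR.cl X (Omega.conormal i))) * LambdaRing.adams PX j x))
    (h52 : (∃ w : TensorProduct ℤ (Localization.Away (j : ℤ)) KP,
        w * ((1 : Localization.Away (j : ℤ)) ⊗ₜ[ℤ] KRR.bott PP j (φP (KRR.cl (KRR.PY n Y)
          (KRR.twF n Y (-1) ((Scheme.Modules.pullback (KRR.pr n Y)).obj (FlatMod.freeMod Y (n + 1))))))) = 1) ∧
      ∀ w : TensorProduct ℤ (Localization.Away (j : ℤ)) KP,
        w * ((1 : Localization.Away (j : ℤ)) ⊗ₜ[ℤ] KRR.bott PP j (φP (KRR.cl (KRR.PY n Y)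
          (KRR.twF n Y (-1) ((Scheme.Modules.pullback (KRR.pr n Y)).obj (FlatMod.freeMod Y (n + 1))))))) = 1 →
        (1 : Localization.Away (j : ℤ)) ⊗ₜ[ℤ] LambdaRing.adams PY j (b (a x)) =
          LinearMap.lTensor (Localization.Away (j : ℤ)) b.toIntLinearMap
            ((j : TensorProduct ℤ (Localization.Away (j : ℤ)) KP) *
              ((1 : Localization.Away (j : ℤ)) ⊗ₜ[ℤ] LambdaRing.adams PP j (a x)) * w)) :
    (∃ w : TensorProduct ℤ (Localization.Away (j : ℤ)) KX, w * ((1 : Localization.Away (j : ℤ)) ⊗ₜ[ℤ] KRR.bott PX j (gi (φP (KRR.cl (KRR.PY n Y)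
      (KRR.twF n Y (-1) ((Scheme.Modules.pullback (KRR.pr n Y)).obj (FlatMod.freeMod Y (n + 1)))))))) = 1) ∧
    ∀ w : TensorProduct ℤ (Localization.Away (j : ℤ)) KX, w * ((1 : Localization.Away (j : ℤ)) ⊗ₜ[ℤ] KRR.bott PX j (gi (φP (KRR.cl (KRR.PY n Y)
      (KRR.twF n Y (-1) ((Scheme.Modules.pullback (KRR.pr n Y)).obj (FlatMod.freeMod Y (n + 1)))))))) = 1 →
    (1 : Localization.Away (j : ℤ)) ⊗ₜ[ℤ] LambdaRing.adams PY j (b (a x)) =
      LinearMap.lTensor (Localization.Away (j : ℤ)) (b.comp a).toIntLinearMap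
        ((j : TensorProduct ℤ (Localization.Away (j : ℤ)) KX) *
          ((1 : Localization.Away (j : ℤ)) ⊗ₜ[ℤ] (KRR.bott PX j (φX (KRR.cl X (Omega.conormal i))) * LambdaRing.adams PX j x)) * w) :=
  AdamsComp.comp_formula (Groth.Agent.Krr.H482.PullLambda.pullRingHom hKX hKP hgi) a hpf b j _ _
    (map_bott_pull hKX hKP hgi j _) _ _ h51 _ h52

end Groth.Agent.Krr.H452.PushRR
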